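import Mathlib.RingTheory.WittVector.Teichmuller
import Mathlib.RingTheory.WittVector.Domain
import Mathlib.RingTheory.WittVector.DiscreteValuationRing
import Mathlib.RingTheory.WittVector.Complete
import Mathlib.NumberTheory.Basic
import Mathlib.Algebra.BigOperators.ModEq
import Mathlib.NumberTheory.Padics.PadicVal.Basic
import Mathlib.Data.Nat.Choose.Multinomial
import Mathlib.RingTheory.MvPolynomial.Homogeneous
import Mathlib.FieldTheory.Finite.Basic
import Mathlib.FieldTheory.Perfect

/-!
Ax's divisibility theorem for the number of zeros of a form over a finite field.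
Digit-sum proof: Teichmüller lift, expand `F̃ ^ E` for `E = (q - 1) p ^ M`, and bound the `p`-adic
valuation of the multinomial coefficients by rotating base `p` digits.
-/

universe u

open Finset

namespace Groth.Agent.AxKatz

section Digits

variable {p f : ℕ}

/-- `∑ digit_t(n) p ^ ((k + t) mod f)`. -/
def rot (p f : ℕ) : ℕ → List ℕ → ℕ
  | _, [] => 0
  | k, a :: l => a * p ^ (k % f) + rot p f (k + 1) l

lemma rot_modEq (hq : p ^ f ≡ 1 [MOD p ^ f - 1]) (l : List ℕ) :
    ∀ k, rot p f k l ≡ p ^ k * Nat.ofDigits p l [MOD p ^ f - 1] := by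
  induction l with
  | nil => intro k; simp [rot]; rfl
  | cons a l ih =>
    intro k
    have h1 : p ^ (k % f) ≡ p ^ k [MOD p ^ f - 1] := by
      have e : p ^ k = (p ^ f) ^ (k / f) * p ^ (k % f) := by
        rw [← pow_mul, ← pow_add, Nat.div_add_mod]
      rw [e]
      have := ((hq.pow (k / f)).mul_right (p ^ (k % f))).symm
      simpa using this
    rw [rot, Nat.ofDigits_cons]
    have := (h1.mul_left a).add (ih (k + 1))
    refine this.trans ?_
    rw [show a * p ^ k + p ^ (k + 1) * Nat.ofDigits p l = p ^ k * (a + p * Nat.ofDigits p l) by ring]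

lemma sum_rot (hf : 0 < f) (l : List ℕ) :
    ∀ k₀, ∑ k ∈ range f, rot p f (k₀ + k) l = l.sum * ∑ k ∈ range f, p ^ k := by
  induction l with
  | nil => intro k; simp [rot]
  | cons a l ih =>
    intro k₀
    simp only [rot, Finset.sum_add_distrib, ← Finset.mul_sum, List.sum_cons, add_mul]
    congr 1
    · congr 1
      refine Finset.sum_nbij' (fun k => (k₀ + k) % f) (fun k => (k + (f - k₀ % f)) % f) ?_ ?_ ?_ ?_ ?_
      · intro k _; exact mem_range.2 (Nat.mod_lt _ hf)
      · intro k _; exact mem_range.2 (Nat.mod_lt _ hf)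
      · intro k hk
        have hk' := mem_range.1 hk
        have h2 := Nat.mod_lt k₀ hf
        show ((k₀ + k) % f + (f - k₀ % f)) % f = k
        rw [Nat.mod_add_mod, show k₀ + k + (f - k₀ % f) = k + f * (k₀ / f + 1) by
          have := Nat.mod_add_div k₀ f; rw [mul_add, mul_one]; omega, Nat.add_mul_mod_self_left,
          Nat.mod_eq_of_lt hk']
      · intro k hk
        have hk' := mem_range.1 hk
        have h2 := Nat.mod_lt k₀ hf
        show (k₀ + (k + (f - k₀ % f)) % f) % f = k
        rw [Nat.add_mod_mod, show k₀ + (k + (f - k₀ % f)) = k + f * (k₀ / f + 1) by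
          have := Nat.mod_add_div k₀ f; rw [mul_add, mul_one]; omega, Nat.add_mul_mod_self_left,
          Nat.mod_eq_of_lt hk']
      · intro k _; rfl
    · rw [← ih (k₀ + 1)]
      exact Finset.sum_congr rfl fun k _ => by rw [add_right_comm]

lemma rot_pos (hp : 0 < p) (l : List ℕ) : ∀ k, Nat.ofDigits p l ≠ 0 → 0 < rot p f k l := by
  induction l with
  | nil => intro k h; simp at h
  | cons a l ih =>
    intro k h
    rw [rot]
    rw [Nat.ofDigits_cons] at h
    rcases Nat.eq_zero_or_pos a with rfl | ha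
    · have : Nat.ofDigits p l ≠ 0 := fun h0 => h (by simp [h0])
      exact Nat.add_pos_right _ (ih (k + 1) this)
    · exact Nat.add_pos_left (Nat.mul_pos ha (Nat.pow_pos hp)) _

lemma digits_sum_mul (hp : 1 < p) (n : ℕ) : (Nat.digits p (p * n)).sum = (Nat.digits p n).sum := by
  rcases Nat.eq_zero_or_pos n with rfl | hn
  · simp
  · rw [Nat.digits_def' hp (Nat.mul_pos (by omega) hn)]
    simp [Nat.mul_mod_right, Nat.mul_div_cancel_left _ (by omega : 0 < p)]

lemma digits_sum_pow_sub_one (hp : 1 < p) : ∀ f, (Nat.digits p (p ^ f - 1)).sum = f * (p - 1) := by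
  intro f
  induction f with
  | zero => simp
  | succ f ih =>
    have h1 : 1 ≤ p ^ f := Nat.one_le_pow _ _ (by omega)
    have e : p ^ (f + 1) - 1 = (p - 1) + p * (p ^ f - 1) := by
      rw [pow_succ', Nat.mul_sub, mul_one]
      have : p ≤ p * p ^ f := Nat.le_mul_of_pos_right _ h1
      omega
    rw [e, Nat.digits_add p hp (p - 1) (p ^ f - 1) (by omega) (Or.inl (by omega)), List.sum_cons, ih,
      Nat.succ_mul, add_comm]

/-- The combinatorial heart. -/
theorem digit_bound {α ι : Type*} [Fintype α] [Fintype ι] (hp : p.Prime) (hf : 0 < f) (d : ℕ)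
    (e : α → ℕ) (c : α → ι → ℕ) (hdeg : ∀ m, ∑ i, c m i = d)
    (hE : p ^ f - 1 ∣ ∑ m, e m) (hc : ∀ i, p ^ f - 1 ∣ ∑ m, e m * c m i) :
    ∃ u : ℕ, Fintype.card ι ≤ d * u + (univ.filter fun i => ∑ m, e m * c m i = 0).card ∧
      f * (p - 1) * u ≤ ∑ m, (Nat.digits p (e m)).sum := by
  classical
  have hp1 := hp.one_lt
  have h1 : 1 ≤ p ^ f := Nat.one_le_pow _ _ hp.pos
  have hq0 : 0 < p ^ f - 1 := Nat.sub_pos_of_lt (Nat.one_lt_pow hf.ne' hp1)
  have hq : p ^ f ≡ 1 [MOD p ^ f - 1] := ((Nat.modEq_iff_dvd' h1).2 dvd_rfl).symm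
  let r : ℕ → α → ℕ := fun k m => rot p f k (Nat.digits p (e m))
  have hr : ∀ k m, r k m ≡ p ^ k * e m [MOD p ^ f - 1] := fun k m => by
    have := rot_modEq hq (Nat.digits p (e m)) k
    rwa [Nat.ofDigits_digits] at this
  have hmod : ∀ (k : ℕ) (w : α → ℕ), p ^ f - 1 ∣ ∑ m, e m * w m → p ^ f - 1 ∣ ∑ m, r k m * w m := by
    intro k w hw
    rw [← Nat.modEq_zero_iff_dvd]
    have e1 : ∑ m, r k m * w m ≡ ∑ m, p ^ k * e m * w m [MOD p ^ f - 1] :=
      Nat.ModEq.sum fun m _ => (hr k m).mul_right _
    refine e1.trans ?_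
    rw [Nat.modEq_zero_iff_dvd]
    simp only [mul_assoc, ← Finset.mul_sum]
    exact hw.mul_left _
  have hu : ∀ k, ∃ u, ∑ m, r k m = (p ^ f - 1) * u := fun k =>
    exists_eq_mul_right_of_dvd (by simpa using hmod k (fun _ => 1) (by simpa using hE))
  choose u hu using hu
  set z := (univ.filter fun i => ∑ m, e m * c m i = 0).card with hz
  have hk : ∀ k, Fintype.card ι ≤ d * u k + z := by
    intro k
    have hlow : ∀ i ∈ univ.filter (fun i => ¬ ∑ m, e m * c m i = 0), p ^ f - 1 ≤ ∑ m, r k m * c m i := by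
      intro i hi
      refine Nat.le_of_dvd ?_ (hmod k (fun m => c m i) (hc i))
      have hne := (Finset.mem_filter.1 hi).2
      obtain ⟨m, -, hm⟩ := Finset.exists_ne_zero_of_sum_ne_zero hne
      refine Finset.sum_pos' (fun _ _ => Nat.zero_le _) ⟨m, Finset.mem_univ _, ?_⟩
      refine Nat.mul_pos (rot_pos hp.pos _ _ ?_) (Nat.pos_of_ne_zero (right_ne_zero_of_mul hm))
      rw [Nat.ofDigits_digits]
      exact left_ne_zero_of_mul hm
    have h2 : (univ.filter (fun i => ¬ ∑ m, e m * c m i = 0)).card * (p ^ f - 1) ≤ d * ((p ^ f - 1) * u k) := by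
      calc _ ≤ ∑ i ∈ univ.filter (fun i => ¬ ∑ m, e m * c m i = 0), ∑ m, r k m * c m i := by
            simpa using Finset.card_nsmul_le_sum _ _ _ hlow
        _ ≤ ∑ i, ∑ m, r k m * c m i := Finset.sum_le_sum_of_subset (Finset.filter_subset _ _)
        _ = ∑ m, r k m * ∑ i, c m i := by rw [Finset.sum_comm]; simp [Finset.mul_sum]
        _ = d * ((p ^ f - 1) * u k) := by
            simp only [hdeg, ← Finset.sum_mul, hu k]; ring
    have h3 : (univ.filter (fun i => ¬ ∑ m, e m * c m i = 0)).card ≤ d * u k :=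
      Nat.le_of_mul_le_mul_right (h2.trans_eq (by ring)) hq0
    have h4 := Finset.card_filter_add_card_filter_not (s := (univ : Finset ι))
      (fun i => ∑ m, e m * c m i = 0)
    rw [Finset.card_univ] at h4
    omega
  obtain ⟨k₀, -, hmin⟩ := Finset.exists_min_image (range f) u ⟨0, Finset.mem_range.2 hf⟩
  refine ⟨u k₀, hk k₀, ?_⟩
  have hgeom : (∑ k ∈ range f, p ^ k) * (p - 1) = p ^ f - 1 := by
    obtain ⟨p', rfl⟩ : ∃ p', p = p' + 1 := ⟨p - 1, by omega⟩
    rw [Nat.add_sub_cancel]
    have := geom_sum_mul_add p' f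
    omega
  have hS : 0 < ∑ k ∈ range f, p ^ k := Finset.sum_pos (fun k _ => Nat.pow_pos hp.pos) ⟨0, Finset.mem_range.2 hf⟩
  refine Nat.le_of_mul_le_mul_right ?_ hS
  calc f * (p - 1) * u k₀ * ∑ k ∈ range f, p ^ k = f * ((p ^ f - 1) * u k₀) := by rw [← hgeom]; ring
    _ ≤ ∑ k ∈ range f, (p ^ f - 1) * u k := by
        have := Finset.card_nsmul_le_sum (range f) (fun k => (p ^ f - 1) * u k) ((p ^ f - 1) * u k₀)
          (fun k hk' => Nat.mul_le_mul_left _ (hmin k hk'))
        simpa using this
    _ = ∑ k ∈ range f, ∑ m, r k m := Finset.sum_congr rfl fun k _ => (hu k).symm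
    _ = ∑ m, (Nat.digits p (e m)).sum * ∑ k ∈ range f, p ^ k := by
        rw [Finset.sum_comm]
        refine Finset.sum_congr rfl fun m _ => ?_
        simpa using sum_rot hf (Nat.digits p (e m)) 0
    _ = _ := by rw [Finset.sum_mul]

end Digits

theorem multinomial_digits {α : Type*} [Fintype α] {p : ℕ} [Fact p.Prime] (e : α → ℕ) :
    ∑ m, (Nat.digits p (e m)).sum =
      (p - 1) * padicValNat p (Nat.multinomial univ e) + (Nat.digits p (∑ m, e m)).sum := by
  have hspec := Nat.multinomial_spec (s := (univ : Finset α)) (f := e)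
  have h1 := congrArg (padicValNat p) hspec
  have hne : (∏ m, Nat.factorial (e m)) ≠ 0 := Finset.prod_ne_zero_iff.2 fun m _ => Nat.factorial_ne_zero _
  have hne' : Nat.multinomial univ e ≠ 0 := fun h0 => by
    rw [h0, mul_zero] at hspec
    exact Nat.factorial_ne_zero _ hspec.symm
  rw [padicValNat.mul hne hne'] at h1
  have h2 : padicValNat p (∏ m, Nat.factorial (e m)) = ∑ m, padicValNat p (Nat.factorial (e m)) := by
    classical
    refine Finset.induction_on (motive := fun s => padicValNat p (∏ m ∈ s, Nat.factorial (e m)) =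
      ∑ m ∈ s, padicValNat p (Nat.factorial (e m))) univ (by simp) ?_
    intro a s ha ih
    rw [Finset.prod_insert ha, Finset.sum_insert ha,
      padicValNat.mul (Nat.factorial_ne_zero _) (Finset.prod_ne_zero_iff.2 fun m _ => Nat.factorial_ne_zero _), ih]
  rw [h2] at h1
  have h3 := congrArg ((p - 1) * ·) h1
  simp only [mul_add, Finset.mul_sum, sub_one_mul_padicValNat_factorial] at h3
  have h4 : ∀ m, (Nat.digits p (e m)).sum ≤ e m := fun m => Nat.digit_sum_le p _
  rw [Finset.sum_tsub_distrib _ (fun m _ => h4 m)] at h3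
  have h5 : (Nat.digits p (∑ m, e m)).sum ≤ ∑ m, e m := Nat.digit_sum_le p _
  have h6 : ∑ m, (Nat.digits p (e m)).sum ≤ ∑ m, e m := Finset.sum_le_sum fun m _ => h4 m
  omega

variable (p : ℕ) [hp : Fact p.Prime] (k : Type u) [Field k] [Fintype k] [CharP k p]

local notation "𝕎" => WittVector p k

lemma p_dvd_iff (x : 𝕎) : (p : 𝕎) ∣ x ↔ x.coeff 0 = 0 := by
  rw [← WittVector.mem_span_p_iff_coeff_zero_eq_zero, Ideal.mem_span_singleton]

lemma dvd_of_dvd_cast {a m : ℕ} (h : (p : 𝕎) ^ a ∣ (m : 𝕎)) : p ^ a ∣ m := by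
  induction a generalizing m with
  | zero => simp
  | succ a ih =>
    have h0 : (p : 𝕎) ∣ (m : 𝕎) := (dvd_pow_self _ (Nat.succ_ne_zero a)).trans h
    have hm : p ∣ m := by
      rw [p_dvd_iff] at h0
      have : ((m : 𝕎)).coeff 0 = (m : k) := map_natCast (WittVector.constantCoeff : 𝕎 →+* k) m
      rw [this] at h0
      exact (CharP.cast_eq_zero_iff k p m).1 h0
    obtain ⟨m', rfl⟩ := hm
    rw [pow_succ']
    refine Nat.mul_dvd_mul_left p (ih ?_)
    rw [pow_succ', Nat.cast_mul] at h
    exact (mul_dvd_mul_iff_left (WittVector.irreducible p (k := k)).ne_zero).1 h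

lemma teichmuller_injective : Function.Injective (WittVector.teichmuller p : k → 𝕎) :=
  Function.LeftInverse.injective (g := fun x : 𝕎 => x.coeff 0) (fun r => WittVector.teichmuller_coeff_zero p r)

/-- Power sums of Teichmüller representatives. -/
lemma power_sum {a : ℕ} (ha : ¬ (Fintype.card k - 1) ∣ a) :
    ∑ y : k, (WittVector.teichmuller p y) ^ a = 0 := by
  classical
  obtain ⟨g, hg⟩ := IsCyclic.exists_generator (α := kˣ)
  have hga : (g : k) ^ a ≠ 1 := by
    intro h
    refine ha ?_
    have hord : orderOf g = Fintype.card k - 1 := by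
      rw [orderOf_eq_card_of_forall_mem_zpowers hg, Nat.card_eq_fintype_card, Fintype.card_units]
    rw [← hord]
    exact orderOf_dvd_of_pow_eq_one (Units.ext (by simpa using h))
  have h1 : (∑ y : k, (WittVector.teichmuller p y) ^ a) = (WittVector.teichmuller p ((g : k) ^ a)) *
      ∑ y : k, (WittVector.teichmuller p y) ^ a := by
    rw [Finset.mul_sum]
    refine (Fintype.sum_equiv (Equiv.mulLeft₀ (g : k) g.ne_zero) _ _ fun y => ?_).symm
    rw [map_pow, ← mul_pow, ← map_mul]
    rfl
  by_contra h0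
  refine hga (teichmuller_injective p k ?_)
  rw [map_one]
  exact (mul_eq_right₀ h0).1 h1.symm

theorem main' {f : ℕ} (hcard : Fintype.card k = p ^ f) (hf : 0 < f) (N d j : ℕ) (hd : 0 < d)
    (F : MvPolynomial (Fin N) k) (hF : F.IsHomogeneous d) (hj : j * d < N) [DecidableEq k] :
    Fintype.card k ^ j ∣ Fintype.card {x : Fin N → k // MvPolynomial.eval x F = 0} := by
  classical
  let E := (p ^ f - 1) * p ^ (f * j)
  let S := F.support
  let τ : k →* 𝕎 := WittVector.teichmuller p
  let G : (Fin N → k) → 𝕎 := fun x => ∑ m : S, τ (F.coeff m.1) * ∏ i, τ (x i) ^ (m.1 i)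
  have hG0 : ∀ x, (G x).coeff 0 = MvPolynomial.eval x F := by
    intro x
    have : (WittVector.constantCoeff : 𝕎 →+* k) (G x) = MvPolynomial.eval x F := by
      simp only [G, map_sum, map_mul, map_prod, map_pow]
      simp only [WittVector.constantCoeff_apply, τ, WittVector.teichmuller_coeff_zero]
      rw [MvPolynomial.eval_eq' x F]
      exact Finset.sum_coe_sort S (fun m => F.coeff m * ∏ i, x i ^ (m i))
    exact this
  have hp2 := hp.out.one_lt
  have hqe : p ^ f - 1 ≠ 0 := (Nat.sub_pos_of_lt (Nat.one_lt_pow hf.ne' hp2)).ne'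
  -- the indicator
  have hind : ∀ x, (p : 𝕎) ^ (f * j) ∣ G x ^ E - (if MvPolynomial.eval x F = 0 then 0 else 1) := by
    intro x
    have key : ∀ a b : 𝕎, (p : 𝕎) ∣ a - b → (p : 𝕎) ^ (f * j) ∣ a ^ p ^ (f * j) - b ^ p ^ (f * j) :=
      fun a b h => (pow_dvd_pow _ (Nat.le_succ _)).trans (dvd_sub_pow_of_dvd_sub h (f * j))
    have hcc : ∀ a : 𝕎, a.coeff 0 = (WittVector.constantCoeff : 𝕎 →+* k) a := fun a => rfl
    split_ifs with h
    · have := key (G x ^ (p ^ f - 1)) 0 (by
        rw [p_dvd_iff, sub_zero, hcc, map_pow, ← hcc, hG0, h, zero_pow hqe])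
      rw [zero_pow (pow_ne_zero _ hp.out.ne_zero), sub_zero, ← pow_mul] at this
      rwa [sub_zero]
    · have := key (G x ^ (p ^ f - 1)) 1 (by
        rw [p_dvd_iff, hcc, map_sub, map_pow, map_one, ← hcc, hG0, ← hcard,
          FiniteField.pow_card_sub_one_eq_one _ h, sub_self])
      rwa [one_pow, ← pow_mul] at this
  -- each term of the expansion is divisible
  have hterm : (p : 𝕎) ^ (f * j) ∣ ∑ x : Fin N → k, G x ^ E := by
    have hexp : ∀ x, G x ^ E = ∑ e ∈ (univ : Finset S).piAntidiag E, (Nat.multinomial univ e : 𝕎) *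
        ((∏ m : S, τ (F.coeff m.1) ^ e m) * ∏ i, τ (x i) ^ (∑ m : S, e m * m.1 i)) := by
      intro x
      rw [Finset.sum_pow_eq_sum_piAntidiag]
      refine Finset.sum_congr rfl fun e _ => ?_
      congr 1
      simp only [mul_pow, Finset.prod_mul_distrib]
      congr 1
      simp only [← Finset.prod_pow, ← pow_mul]
      rw [Finset.prod_comm]
      refine Finset.prod_congr rfl fun i _ => ?_
      rw [Finset.prod_pow_eq_pow_sum]
      exact congrArg _ (Finset.sum_congr rfl fun m _ => mul_comm _ _)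
    simp only [hexp]
    rw [Finset.sum_comm]
    refine Finset.dvd_sum fun e he => ?_
    have hsum : ∑ m, e m = E := by simpa using (Finset.mem_piAntidiag.1 he).1
    rw [← Finset.mul_sum, ← Finset.mul_sum,
      ← Fintype.prod_sum (fun i (y : k) => τ y ^ (∑ m : S, e m * m.1 i))]
    by_cases hc : ∀ i, p ^ f - 1 ∣ ∑ m : S, e m * m.1 i
    · obtain ⟨u, hu1, hu2⟩ := digit_bound (α := S) (ι := Fin N) hp.out hf d e (fun m i => m.1 i)
        (fun m => by
          have := hF (MvPolynomial.mem_support_iff.1 m.2)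
          rw [← this]
          simp [Finsupp.weight_apply, Finsupp.sum_fintype])
        (hsum ▸ dvd_mul_right _ _) hc
      have hmd := multinomial_digits (p := p) e
      have hsE : (Nat.digits p E).sum = f * (p - 1) := by
        have : ∀ t, (Nat.digits p ((p ^ f - 1) * p ^ t)).sum = f * (p - 1) := by
          intro t
          induction t with
          | zero => simpa using digits_sum_pow_sub_one hp2 f
          | succ t ih => rw [pow_succ', mul_left_comm, digits_sum_mul hp2, ih]
        exact this _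
      rw [hsum, hsE] at hmd
      set v := padicValNat p (Nat.multinomial univ e) with hv
      set z := (univ.filter fun i => ∑ m : S, e m * m.1 i = 0).card with hz
      rw [Fintype.card_fin] at hu1
      have hvu : f * u ≤ v + f := by
        refine Nat.le_of_mul_le_mul_left ?_ (Nat.sub_pos_of_lt hp2)
        calc (p - 1) * (f * u) = f * (p - 1) * u := by ring
          _ ≤ _ := hu2
          _ = (p - 1) * (v + f) := by rw [hmd]; ring
      have huz : j + 1 ≤ u + z := by
        by_contra hcon
        have h1 : d * (u + z) ≤ d * j := Nat.mul_le_mul_left _ (by omega)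
        have h2 : z ≤ d * z := Nat.le_mul_of_pos_left _ hd
        rw [mul_add] at h1
        rw [mul_comm] at hj
        omega
      have hfin : f * j ≤ v + f * z := by
        have := Nat.mul_le_mul_left f huz
        rw [mul_add, mul_add, mul_one] at this
        omega
      refine (pow_dvd_pow _ hfin).trans ?_
      rw [pow_add]
      refine mul_dvd_mul ?_ (dvd_mul_of_dvd_right ?_ _)
      · obtain ⟨w, hw⟩ : p ^ v ∣ Nat.multinomial univ e := pow_padicValNat_dvd
        exact ⟨(w : 𝕎), by rw [hw]; push_cast; rfl⟩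
      · have : (p : 𝕎) ^ (f * z) = ∏ i ∈ univ.filter (fun i => ∑ m : S, e m * m.1 i = 0),
            ∑ y : k, τ y ^ (∑ m : S, e m * m.1 i) := by
          rw [Finset.prod_congr rfl (g := fun _ => (p : 𝕎) ^ f) (fun i hi => by
            rw [(Finset.mem_filter.1 hi).2]
            simp [hcard])]
          rw [Finset.prod_const, ← pow_mul]
        rw [this]
        exact Finset.prod_dvd_prod_of_subset _ _ _ (Finset.filter_subset _ _)
    · obtain ⟨i, hi⟩ := not_forall.1 hc
      rw [Finset.prod_eq_zero (Finset.mem_univ i) (power_sum p k (hcard.symm ▸ hi))]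
      simp
  -- count
  have hsub := dvd_sub hterm (Finset.dvd_sum (s := univ) fun x _ => hind x)
  rw [Finset.sum_sub_distrib, sub_sub_cancel] at hsub
  have hone : (∑ x : Fin N → k, (if MvPolynomial.eval x F = 0 then (0 : 𝕎) else 1)) =
      ((univ.filter fun x : Fin N → k => ¬ MvPolynomial.eval x F = 0).card : 𝕎) := by
    rw [Finset.natCast_card_filter]
    exact Finset.sum_congr rfl fun x _ => by split_ifs <;> rfl
  rw [hone] at hsub
  have hd1 := dvd_of_dvd_cast p k hsub
  have hjN : j ≤ N := le_of_lt (lt_of_le_of_lt (Nat.le_mul_of_pos_right _ hd) hj)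
  have hall : p ^ (f * j) ∣ Fintype.card (Fin N → k) := by
    rw [Fintype.card_fun, Fintype.card_fin, hcard, ← pow_mul]
    exact pow_dvd_pow _ (Nat.mul_le_mul_left _ hjN)
  have hsplit := Finset.card_filter_add_card_filter_not (s := (univ : Finset (Fin N → k)))
    (fun x => MvPolynomial.eval x F = 0)
  rw [Finset.card_univ] at hsplit
  rw [hcard, ← pow_mul, Fintype.card_subtype]
  rw [← hsplit] at hall
  exact (Nat.dvd_add_left hd1).1 hall

theorem main (k : Type u) [Field k] [Fintype k] [DecidableEq k] (N d j : ℕ) (hd : 0 < d)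
    (F : MvPolynomial (Fin N) k) (hF : F.IsHomogeneous d) (hj : j * d < N) :
    Fintype.card k ^ j ∣ Fintype.card {x : Fin N → k // MvPolynomial.eval x F = 0} := by
  obtain ⟨p, hchar⟩ := CharP.exists k
  obtain ⟨f, hp, hcard⟩ := FiniteField.card k p
  haveI : Fact p.Prime := ⟨hp⟩
  exact main' p k hcard f.pos N d j hd F hF hj

end Groth.Agent.AxKatz
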